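import Mathlib.Algebra.Category.ModuleCat.Presheaf.Generator
import Mathlib.Algebra.Category.ModuleCat.Presheaf.Sheafification
import Mathlib.Algebra.Category.ModuleCat.Sheaf.Abelian
import Mathlib.Algebra.Category.ModuleCat.Sheaf.Colimits
import Mathlib.Algebra.Category.Grp.AB
import Mathlib.CategoryTheory.Sites.Abelian
import Mathlib.CategoryTheory.Abelian.GrothendieckCategory.Basic
import Mathlib.CategoryTheory.Abelian.GrothendieckAxioms.FunctorCategory

/-!
Sheaves of modules on a small site form a Grothendieck abelian category.
-/

set_option autoImplicit false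
universe u

namespace Groth.Agent.ModSiteGro

open CategoryTheory Limits

variable {C : Type u} [SmallCategory C]

instance ab5_presheafOfModules (R : Cᵒᵖ ⥤ RingCat.{u}) :
    AB5OfSize.{u, u} (PresheafOfModules.{u} R) where
  ofShape K _ _ := by
    have : (PresheafOfModules.toPresheaf R).ReflectsIsomorphisms := inferInstance
    have : ReflectsFiniteLimits (PresheafOfModules.toPresheaf R) :=
      ⟨fun _ _ _ => reflectsLimitsOfShape_of_reflectsIsomorphisms⟩
    exact HasExactColimitsOfShape.domain_of_functor K (PresheafOfModules.toPresheaf R)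

variable {J : GrothendieckTopology C} (R : Sheaf J RingCat.{u})

instance ab5_sheafOfModules : AB5OfSize.{u, u} (SheafOfModules.{u} R) where
  ofShape K _ _ :=
    (PresheafOfModules.sheafificationAdjunction (𝟙 R.obj)).hasExactColimitsOfShape K

theorem hasSeparator_sheafOfModules : HasSeparator (SheafOfModules.{u} R) := by
  let adj := PresheafOfModules.sheafificationAdjunction (R := R) (𝟙 R.obj)
  let g : C → SheafOfModules.{u} R := fun X =>
    (PresheafOfModules.sheafification (R := R) (𝟙 R.obj)).obj
      ((PresheafOfModules.free R.obj).obj (yoneda.obj X))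
  refine ⟨∐ g, (isSeparator_sigma g).2 ?_⟩
  intro M N f₁ f₂ h
  apply (SheafOfModules.forget R ⋙ PresheafOfModules.restrictScalars (𝟙 R.obj)).map_injective
  apply PresheafOfModules.freeYoneda.isSeparating R.obj
  rintro G ⟨X⟩ a
  obtain ⟨b, rfl⟩ := (adj.homEquiv _ M).surjective a
  rw [← adj.homEquiv_naturality_right, ← adj.homEquiv_naturality_right]
  exact congrArg _ (h _ ⟨X⟩ b)

theorem isGrothendieckAbelian : IsGrothendieckAbelian.{u} (SheafOfModules.{u} R) where
  hasFilteredColimitsOfSize := ⟨fun _ _ _ => inferInstance⟩
  hasSeparator := hasSeparator_sheafOfModules R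

end Groth.Agent.ModSiteGro
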